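import Mathlib.Algebra.Group.End
import Mathlib.Algebra.Group.Subgroup.Ker
import Mathlib.Algebra.BigOperators.Group.List.Basic
import Mathlib.Tactic.Group

/-!
Elementary identities behind abstract Shintani descent.
-/

namespace Cfsg.Agent.Shintani

variable {X : Type*} [Group X] (σ : MulAut X)

theorem prod_map_pow (g a : X) (ha : g = a * (σ a)⁻¹) (d : ℕ) :
    ((List.range d).map (fun i => (σ ^ i) g)).prod = a * ((σ ^ d) a)⁻¹ := by
  induction d with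
  | zero => simp
  | succ d ih =>
    rw [List.range_succ, List.map_append, List.prod_append, ih]
    simp only [List.map_cons, List.map_nil, List.prod_singleton, ha, map_mul, map_inv, pow_succ,
      MulAut.mul_apply]
    group

theorem pow_fix {y : X} (hy : σ y = y) (n : ℕ) : (σ ^ n) y = y := by
  induction n with
  | zero => simp
  | succ n ih => rw [pow_succ, MulAut.mul_apply, hy, ih]

theorem pow_comm_apply (e : ℕ) (y : X) : σ ((σ ^ e) y) = (σ ^ e) (σ y) := by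
  rw [← MulAut.mul_apply, ← MulAut.mul_apply, (Commute.self_pow σ e).eq]

theorem descent_fixed {e : ℕ} {g a : X} (hg : (σ ^ e) g = g) (ha : g = a * (σ a)⁻¹) :
    σ (((σ ^ e) a)⁻¹ * a) = ((σ ^ e) a)⁻¹ * a := by
  rw [ha, map_mul, map_inv] at hg
  rw [map_mul, map_inv, pow_comm_apply]
  calc ((σ ^ e) (σ a))⁻¹ * σ a
      = ((σ ^ e) a)⁻¹ * ((σ ^ e) a * ((σ ^ e) (σ a))⁻¹) * σ a := by group
    _ = ((σ ^ e) a)⁻¹ * (a * (σ a)⁻¹) * σ a := by rw [hg]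
    _ = ((σ ^ e) a)⁻¹ * a := by group

/-- The conjugated element `b⁻¹ k a` is fixed by `σ` exactly when `k` carries `g` to `g'`. -/
theorem twisted_iff {g g' a b : X} (ha : g = a * (σ a)⁻¹) (hb : g' = b * (σ b)⁻¹) (k : X) :
    g' = k * g * (σ k)⁻¹ ↔ σ (b⁻¹ * k * a) = b⁻¹ * k * a := by
  rw [ha, hb, map_mul, map_mul, map_inv]
  constructor
  · intro h
    calc (σ b)⁻¹ * σ k * σ a = b⁻¹ * (b * (σ b)⁻¹) * σ k * σ a := by group
      _ = b⁻¹ * (k * (a * (σ a)⁻¹) * (σ k)⁻¹) * σ k * σ a := by rw [h]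
      _ = b⁻¹ * k * a := by group
  · intro h
    calc b * (σ b)⁻¹ = b * ((σ b)⁻¹ * σ k * σ a) * (σ a)⁻¹ * (σ k)⁻¹ := by group
      _ = b * (b⁻¹ * k * a) * (σ a)⁻¹ * (σ k)⁻¹ := by rw [h]
      _ = k * (a * (σ a)⁻¹) * (σ k)⁻¹ := by group

/-- If `b⁻¹ k a` is fixed by `σ`, then `k` is fixed by `σ ^ e` exactly when it carries `x` to `x'`. -/
theorem fixed_iff {e : ℕ} {a b k : X} (h : σ (b⁻¹ * k * a) = b⁻¹ * k * a) :
    (σ ^ e) k = k ↔
      ((σ ^ e) b)⁻¹ * b = (b⁻¹ * k * a) * (((σ ^ e) a)⁻¹ * a) * (b⁻¹ * k * a)⁻¹ := by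
  have h3 := pow_fix σ h e
  rw [map_mul, map_mul, map_inv] at h3
  have hk : (σ ^ e) k = (σ ^ e) b * (b⁻¹ * k * a) * ((σ ^ e) a)⁻¹ := by
    calc (σ ^ e) k = (σ ^ e) b * (((σ ^ e) b)⁻¹ * (σ ^ e) k * (σ ^ e) a) * ((σ ^ e) a)⁻¹ := by group
      _ = _ := by rw [h3]
  rw [hk]
  constructor
  · intro hh
    calc ((σ ^ e) b)⁻¹ * b = ((σ ^ e) b)⁻¹ * ((σ ^ e) b * (b⁻¹ * k * a) * ((σ ^ e) a)⁻¹) * k⁻¹ * b := by
          rw [hh]; group
      _ = _ := by group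
  · intro hh
    calc (σ ^ e) b * (b⁻¹ * k * a) * ((σ ^ e) a)⁻¹
        = b * (((σ ^ e) b)⁻¹ * b)⁻¹ * (b⁻¹ * k * a) * ((σ ^ e) a)⁻¹ := by group
      _ = k := by rw [hh]; group

end Cfsg.Agent.Shintani
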